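import Groth.Agent.NonsingVar.K823.JacAlg
import Groth.Agent.Unram17.K134.ConormalMono
import Groth.Agent.Divis.StalkMod
import Groth.Agent.Ega2.QCohLocal
import Groth.Agent.Ega2.SmoothBdry
import Groth.Agent.Omega.K935.SmoothImm
import Groth.Agent.Picfga.CurveRelDim
import Groth.Agent.S5018
import Groth.Agent.S5020
import Groth.Agent.S1535
import Groth.Agent.S0558
import Groth.Agent.Flat2H.FSSmoothHom

/-!
# The Jacobian criterion for closed subschemes of smooth schemes

* `K823.Jac.smooth_of_mono`: if the conormal map is a monomorphism and `Ω_{Y/S}` is finite locally free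
  then `Y` is smooth over `S`.
-/

set_option autoImplicit false
universe u

open CategoryTheory CategoryTheory.Limits AlgebraicGeometry TopologicalSpace Opposite OmegaSh

namespace K823.Jac

open K583.ConSect K583.IdealStalk K583.StalkDer Groth.Agent.CycB.StalkExact
  Groth.Agent.Fdesc.PullbackStalk Groth.Agent.CohqA.BaseChangeMod

variable {Y X S : Scheme.{u}} (i : Y ⟶ X) [IsImmersion i] [QuasiCompact i] (p : X ⟶ S) [Smooth p]
  {ΩX : X.Modules} {dX : Der p ΩX} (hX : IsUniversal dX) {ΩY : Y.Modules} {dY : Der (i ≫ p) ΩY}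
  (hY : IsUniversal dY) {φ : Omega.conormal i ⟶ (Scheme.Modules.pullback i).obj ΩX} (hφ : IsConormalDiff i dX φ)

include hX hY hφ in
theorem smooth_of_mono [LocallyOfFinitePresentation (i ≫ p)] [Mono φ] (hF : FlatMod.IsFinLocFree ΩY) :
    Smooth (i ≫ p) := by
  rw [← Scheme.Hom.smoothLocus_eq_top_iff, eq_top_iff]
  intro y _
  have h3 : ((i.stalkMap y).hom.comp (p.stalkMap (i y)).hom) = ((i ≫ p).stalkMap y).hom := by
    rw [show (i ≫ p).stalkMap y = p.stalkMap (i y) ≫ i.stalkMap y from Scheme.Hom.stalkMap_comp i p y]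
    rfl
  have hfree := (Groth.Agent.Divis.StalkMod.finite_free_stalk
    (Groth.Agent.Ega2.QCohLocal.isQCoh_of_isFinLocFree hF) hF y).2
  have hB : (p.stalkMap (i y)).hom.FormallySmooth := by
    have h4 : i y ∈ p.smoothLocus := by rw [Scheme.Hom.smoothLocus_eq_top]; trivial
    exact h4
  have hinj : Function.Injective (stalkLin φ y) := by
    have h5 : Mono φ := inferInstance
    rw [Groth.Agent.PerfC.FlatExact.mono_iff_stalkLin] at h5
    exact h5 y
  have hC := isAlgUniv_stalkDer hY y
  rw [← h3] at hC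
  have h6 := K823.JacAlg.formallySmooth_comp (φ := (p.stalkMap (i y)).hom) (π := (i.stalkMap y).hom)
    (i.stalkMap_surjective y) hB (mem_range_idSt_iff i i.isEmbedding.isInducing y)
    (isBC_canAdd i (ClSub.idealMod i.ker) y)
    (isAlgUniv_stalkDer hX (i y)) (isBC_canAdd i ΩX y) (K583.ConExact.stalk_conormalDiff hφ y) hinj hC
  rw [h3] at h6
  exact h6

end K823.Jac

namespace K823.Jac

open Groth.Agent

/-- **The Jacobian criterion over an algebraically closed field.** -/
theorem regular_iff {k : Type u} [Field k] [IsAlgClosed k] {X Y : Scheme.{u}} (p : X ⟶ Spec (CommRingCat.of k))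
    [LocallyOfFiniteType p] (hreg : ∀ x : X, IsRegularLocalRing (X.presheaf.stalk x)) (i : Y ⟶ X)
    [IsClosedImmersion i] {ΩX : X.Modules} {dX : Der p ΩX} (hX : IsUniversal dX) {ΩY : Y.Modules}
    {dY : Der (i ≫ p) ΩY} (hY : IsUniversal dY)
    {φ : Omega.conormal i ⟶ (Scheme.Modules.pullback i).obj ΩX} (hφ : IsConormalDiff i dX φ) :
    (∀ y : Y, IsRegularLocalRing (Y.presheaf.stalk y)) ↔ (FlatMod.IsFinLocFree ΩY ∧ Mono φ) := by
  have hp : Smooth p := Ega2.SmoothBdry.smooth_of_regular _ hreg
  constructor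
  · intro h
    have hs : Smooth (i ≫ p) := Ega2.SmoothBdry.smooth_of_regular _ h
    have hfs := Flat2H.FSSmoothHom.isFormallySmoothHom_of_smooth (i ≫ p)
    exact ⟨S5018.result (i ≫ p) hfs ΩY dY hY, S5020.result i p hfs ΩX dX hX φ hφ⟩
  · rintro ⟨h1, h2⟩
    have : LocallyOfFinitePresentation (i ≫ p) :=
      LocallyOfFinitePresentation.iff_locallyOfFiniteType.mpr inferInstance
    have hs : Smooth (i ≫ p) := smooth_of_mono i p hX hY hφ h1
    let : Y.Over (Spec (CommRingCat.of k)) := ⟨i ≫ p⟩
    have h4 : Smooth (Y ↘ (Spec (CommRingCat.of k))) := hs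
    exact fun y => S1535.result k Y y

/-- The rank of the conormal module. -/
theorem isFinLocFreeOfRank_conormal {k : Type u} [Field k] [IsAlgClosed k] {X Y : Scheme.{u}}
    (p : X ⟶ Spec (CommRingCat.of k))
    [IsIntegral X] [LocallyOfFiniteType p] [QuasiSeparated p]
    (hreg : ∀ x : X, IsRegularLocalRing (X.presheaf.stalk x)) (n q : ℕ)
    (hn : topologicalKrullDim X = n) (i : Y ⟶ X)
    [IsClosedImmersion i] [IrreducibleSpace Y] (hq : topologicalKrullDim Y = q)
    (h : ∀ y : Y, IsRegularLocalRing (Y.presheaf.stalk y)) :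
    FlatMod.IsFinLocFreeOfRank (n - q) (Omega.conormal i) := by
  have hp : Smooth p := Ega2.SmoothBdry.smooth_of_regular _ hreg
  have hs : Smooth (i ≫ p) := Ega2.SmoothBdry.smooth_of_regular _ h
  have : ∀ y : Y, _root_.IsReduced (Y.presheaf.stalk y) := fun y => by
    have := h y
    have := S0558.result (Y.presheaf.stalk y)
    infer_instance
  have : IsReduced Y := isReduced_of_isReduced_stalk Y
  have : IsIntegral Y := isIntegral_of_irreducibleSpace_of_isReduced Y
  have h3 := Picfga.CurveRelDim.smoothOfRelativeDimension_of_topologicalKrullDim_eq k X p n hn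
  have h4 := Picfga.CurveRelDim.smoothOfRelativeDimension_of_topologicalKrullDim_eq k Y (i ≫ p) q hq
  have hle : q ≤ n := by
    have := i.isClosedEmbedding.isInducing.topologicalKrullDim_le
    rw [hn, hq] at this
    exact_mod_cast this
  exact K935.SmoothImm.isFinLocFreeOfRank_conormal i p (show q + (n - q) = n by omega)
    (Dual.H339.OmegaRank.isFinLocFreeOfRank_omega n p)
    (Dual.H339.OmegaRank.isFinLocFreeOfRank_omega q (i ≫ p))

end K823.Jac
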