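import Groth.Agent.Unram17.K134.ConormalRetr
import Mathlib.RingTheory.Smooth.Basic

/-!
# The converse of the Jacobian criterion, algebra

`A → B → C` with `B → C` surjective with kernel `I`, `A → B` formally smooth. If the conormal map
`I/I² → C ⊗ Ω_{B/A}` is injective and `Ω_{C/A}` is projective then `A → C` is formally smooth. The conormal
module, `C ⊗ Ω_{B/A}` and `Ω_{C/A}` are given by their universal properties.
-/

set_option autoImplicit false
universe u

open TensorProduct KaehlerDifferential

namespace K823.JacAlg

open K583.AlgUniv Groth.Agent.CohqA.BaseChangeMod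

variable {A B C : Type u} [CommRing A] [CommRing B] [CommRing C] {φ : A →+* B} {π : B →+* C}

/-- A universal `A`-derivation into a projective module: `Ω_{C/A}` is projective. -/
theorem projective_of_isAlgUniv [Algebra A C] {F : Type u} [AddCommGroup F] [Module C F]
    [Module.Projective C F] {δ : C →+ F} (hδ : IsAlgUniv (algebraMap A C) δ) :
    Module.Projective C Ω[C⁄A] := by
  have hD : IsDer (algebraMap A C) ((D A C : C →ₗ[A] Ω[C⁄A]) : C →+ Ω[C⁄A]) :=
    ⟨fun a b => (D A C).leibniz a b, fun a => (D A C).map_algebraMap a⟩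
  obtain ⟨r, hr, -⟩ := hδ.lift _ _ hD
  let _ : Module A F := Module.compHom F (algebraMap A C)
  have : IsScalarTower A C F := ⟨fun a c x => by rw [Algebra.smul_def, mul_smul]; rfl⟩
  let d : Derivation A C F := Derivation.mk'
    { toFun := δ
      map_add' := map_add δ
      map_smul' := fun a c => by
        rw [Algebra.smul_def, hδ.leibniz, RingHom.id_apply, hδ.zero, smul_zero, add_zero]
        rfl } (fun a b => hδ.leibniz a b)
  refine Module.Projective.of_split d.liftKaehlerDifferential r ?_
  refine Derivation.liftKaehlerDifferential_unique (R := A) _ _ ?_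
  ext x
  change r (d.liftKaehlerDifferential (D A C x)) = D A C x
  rw [Derivation.liftKaehlerDifferential_comp_D]
  exact hr x

variable (hs : Function.Surjective π) (hB : φ.FormallySmooth)
  {I' : Type u} [AddCommGroup I'] [Module B I'] {κ : I' →ₗ[B] B}
  (hκr : ∀ b, b ∈ LinearMap.range κ ↔ π b = 0)
  {MI : Type u} [AddCommGroup MI] [Module C MI] {u : I' →+ MI} (hu : IsBC π u)
  {Ω' : Type u} [AddCommGroup Ω'] [Module B Ω'] {δ : B →+ Ω'} (hδ : IsAlgUniv φ δ)
  {E : Type u} [AddCommGroup E] [Module C E] {t : Ω' →+ E} (ht : IsBC π t)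
  {Φ : MI →ₗ[C] E} (hΦ : ∀ x, Φ (u x) = t (δ (κ x)))

include hs hB hκr hu hδ ht hΦ in
/-- **The converse of the Jacobian criterion.** -/
theorem formallySmooth_comp (hinj : Function.Injective Φ) {F : Type u} [AddCommGroup F] [Module C F]
    [Module.Projective C F] {δC : C →+ F} (hδC : IsAlgUniv (π.comp φ) δC) : (π.comp φ).FormallySmooth := by
  let _ := φ.toAlgebra
  let _ := π.toAlgebra
  let _ := (π.comp φ).toAlgebra
  have : IsScalarTower A B C := .of_algebraMap_eq fun _ => rfl
  have hB' : Algebra.FormallySmooth A B := hB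
  have hs' : Function.Surjective (algebraMap B C) := hs
  let J := RingHom.ker (algebraMap B C)
  -- the `C`-module structure on `J/J²`
  let eC : C →+* B ⧸ J := (RingHom.quotientKerEquivOfSurjective hs').symm
  have heC : ∀ b, eC (π b) = Ideal.Quotient.mk J b := fun b =>
    (RingHom.quotientKerEquivOfSurjective hs').symm_apply_apply (Ideal.Quotient.mk J b)
  let _ : Module C J.Cotangent := Module.compHom _ eC
  have hsm : ∀ (b : B) (z : J.Cotangent), π b • z = b • z := fun b z => by
    change eC (π b) • z = b • z
    rw [heC]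
    rfl
  have hmem : ∀ x : I', κ x ∈ J := fun x => (hκr _).1 ⟨x, rfl⟩
  let g : I' →+ J.Cotangent :=
    { toFun := fun x => J.toCotangent ⟨κ x, hmem x⟩
      map_zero' := by
        rw [← map_zero J.toCotangent]
        congr 1
        ext
        exact map_zero κ
      map_add' := fun x y => by
        rw [← map_add J.toCotangent]
        congr 1
        ext
        exact map_add κ x y }
  have hg : ∀ (r : B) (x : I'), g (r • x) = π r • g x := fun r x => by
    rw [hsm]
    change J.toCotangent _ = r • J.toCotangent _
    rw [← map_smul J.toCotangent]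
    congr 1
    ext
    exact map_smul κ r x
  obtain ⟨v, hv, -⟩ := hu.lift _ g hg
  -- the map `C ⊗ Ω_{B/A} → E`
  let _ : Module B E := Module.compHom E π
  have : IsScalarTower B C E := ⟨fun b c x => by rw [Algebra.smul_def, mul_smul]; rfl⟩
  let _ : Module A E := Module.compHom E (π.comp φ)
  have : IsScalarTower A B E := ⟨fun b c x => by rw [Algebra.smul_def, mul_smul]; rfl⟩
  let d : Derivation A B E := Derivation.mk'
    { toFun := fun b => t (δ b)
      map_add' := fun a b => by rw [map_add, map_add]
      map_smul' := fun a c => by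
        rw [Algebra.smul_def, hδ.leibniz, RingHom.id_apply]
        have h1 : δ (algebraMap A B a) = 0 := hδ.zero a
        rw [h1, smul_zero, add_zero, ht.map_smul]
        rfl } (fun a b => by
          change t (δ (a * b)) = π a • t (δ b) + π b • t (δ a)
          rw [hδ.leibniz, map_add, ht.map_smul, ht.map_smul])
  let a : C ⊗[B] Ω[B⁄A] →ₗ[C] E := d.liftKaehlerDifferential.liftBaseChange C
  have ha : ∀ b, a (1 ⊗ₜ D A B b) = t (δ b) := fun b => by
    rw [LinearMap.liftBaseChange_tmul, one_smul, Derivation.liftKaehlerDifferential_comp_D]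
    rfl
  have h1 : Function.Injective (kerCotangentToTensor A B C) := by
    rw [injective_iff_map_eq_zero]
    intro z hz
    obtain ⟨⟨b, hb⟩, rfl⟩ := J.toCotangent_surjective z
    obtain ⟨x, rfl⟩ := (hκr b).2 hb
    have h2 : (1 : C) ⊗ₜ[B] D A B (κ x) = 0 := hz
    have h3 : Φ (u x) = 0 := by rw [hΦ, ← ha, h2, map_zero]
    have h4 : u x = 0 := hinj (h3.trans (map_zero Φ).symm)
    have h5 : g x = 0 := by rw [← hv, h4, map_zero]
    exact h5
  have h2 : Algebra.FormallySmooth A C :=
    (Algebra.formallySmooth_iff _ _).mpr ⟨projective_of_isAlgUniv hδC,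
      (Algebra.FormallySmooth.kerCotangentToTensor_injective_iff hs').mp h1⟩
  exact h2

end K823.JacAlg
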